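import Cfsg.Agent.ZN.ChoiceBase
import Cfsg.Agent.ZN.Facts
import Cfsg.Agent.MinSimple.Basic

/-!
# LEMMA K (OMEGA, helper612 #11397): two FF-blocks in a common 2-local have commuting modules

`G` is a finite group, `S` a Sylow 2-subgroup, `B = bau S = C_S(Ω₁Z(J(S)))` the Baumann subgroup.

* (B) `le_normalizer_bau` : a 2-subgroup `T ≥ bau S` normalises `bau S` (`jj_eq`, `bau_eq`, `zj_eq`);
* `Blk B L V` : `L` is a block over `B` with module `V`;
* (K) `Blk.le_o2` : if `L ≤ H` and `C_H(O₂(H)) ≤ O₂(H)`, then `V ≤ Z(O₂(H))`;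
* Corollary 1 `commute_of_common` : two blocks over `bau S` and `bau S'` in such an `H` have
  commuting modules; `commute_of_local`: the same for `H = N_G(U)` in a group of characteristic 2
  type, `nonLoc`: noncommuting modules give a nonlocal pair.
-/

set_option autoImplicit false

namespace Cfsg.Agent.Omega.LemmaK.Main

open Subgroup Cfsg Cfsg.Agent.ZN Cfsg.Agent.ZN.ChoiceBase

universe u

variable {G : Type u} [Group G]

/-! ### (B) 2-subgroups over the Baumann subgroup of a Sylow subgroup -/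

section Bau

variable [Finite G] (S : Sylow 2 G) {T : Subgroup G}

include S in
theorem key_aux (hT : IsPGroup 2 T) (h : bau (S : Subgroup G) ≤ T) :
    jj T = jj (S : Subgroup G) ∧ bau T = bau (S : Subgroup G) := by
  obtain ⟨S', hS'⟩ := hT.exists_le_sylow
  obtain ⟨g, hg⟩ := MulAction.exists_smul_eq G S S'
  have hg2 : (S' : Subgroup G) = cj g (S : Subgroup G) := by
    rw [← hg, Sylow.coe_subgroup_smul]
    rfl
  have h1 : key T ≤ key (S : Subgroup G) := by
    refine (key_mono hS').trans ?_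
    rw [hg2, key_cj]
  obtain ⟨-, h2, h3, -⟩ := of_key_le h h1
  exact ⟨h2, h3⟩

theorem jj_eq (hT : IsPGroup 2 T) (h : bau (S : Subgroup G) ≤ T) :
    jj T = jj (S : Subgroup G) := (key_aux S hT h).1

theorem bau_eq (hT : IsPGroup 2 T) (h : bau (S : Subgroup G) ≤ T) :
    bau T = bau (S : Subgroup G) := (key_aux S hT h).2

theorem zj_eq (hT : IsPGroup 2 T) (h : bau (S : Subgroup G) ≤ T) :
    zj T = zj (S : Subgroup G) := by
  rw [← ChoiceBase.zj_bau T, bau_eq S hT h, ChoiceBase.zj_bau]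

/-- (B) A 2-subgroup containing `bau S` normalises it. -/
theorem le_normalizer_bau (hT : IsPGroup 2 T) (h : bau (S : Subgroup G) ≤ T) :
    T ≤ normalizer (bau (S : Subgroup G) : Set G) := by
  rw [← bau_eq S hT h]
  exact Subgroup.le_normalizer.trans (normalizer_le_bau T)

/-- The same for the conjugates of `bau S`. -/
theorem le_normalizer_cj_bau (x : G) (hT : IsPGroup 2 T) (h : cj x (bau (S : Subgroup G)) ≤ T) :
    T ≤ normalizer ((cj x (bau (S : Subgroup G)) : Subgroup G) : Set G) := by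
  have h1 : bau (S : Subgroup G) ≤ cj x⁻¹ T := cj_le_iff.mp h
  have h2 := le_normalizer_bau S (isPGroup_cj x⁻¹ hT) h1
  have h3 := cj_mono x h2
  rwa [cj_cj_inv, cj_normalizer] at h3

end Bau

/-! ### Blocks -/

/-- `L` is a block over (the Baumann subgroup) `B` with module `V`: `L = ⟨B^L⟩`, `V ≤ L` is
normalised by every element normalising `L` and `⟨Ω₁Z(B)^L⟩`, `O₂(L)` centralises `V` and every
2-element acting on `V` and commuting there with `L` centralises `V`. -/
structure Blk (B L V : Subgroup G) : Prop where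
  le : B ≤ L
  gen : L ≤ ⨆ x : L, cj (x : G) B
  VL : V ≤ L
  nor : ∀ w : G, w ∈ normalizer (L : Set G) → w ∈ normalizer (zl B L : Set G) →
    w ∈ normalizer (V : Set G)
  cent : o2 L ≤ centralizer (V : Set G)
  rigid : ∀ w : G, IsPGroup 2 (zpowers w) → w ∈ normalizer (V : Set G) →
    (∀ x ∈ L, w * x * w⁻¹ * x⁻¹ ∈ centralizer (V : Set G)) → w ∈ centralizer (V : Set G)

variable {B L V : Subgroup G}

theorem Blk.eq_iSup (h : Blk B L V) : L = ⨆ x : L, cj (x : G) B := by
  apply le_antisymm h.gen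
  refine iSup_le fun x => ?_
  rintro _ ⟨b, hb, rfl⟩
  exact L.mul_mem (L.mul_mem x.2 (h.le hb)) (L.inv_mem x.2)

theorem cj_le_of_mem {x : G} (h : B ≤ L) (hx : x ∈ L) : cj x B ≤ L := by
  rintro _ ⟨b, hb, rfl⟩
  exact L.mul_mem (L.mul_mem hx (h hb)) (L.inv_mem hx)

/-- An element normalising all members of a family normalises their join. -/
theorem mem_normalizer_iSup {ι : Sort*} {F : ι → Subgroup G} {w : G}
    (h : ∀ i, w ∈ normalizer (F i : Set G)) : w ∈ normalizer ((⨆ i, F i : Subgroup G) : Set G) := by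
  rw [mem_normalizer_iff_cj]
  have h1 : cj w (⨆ i, F i) = ⨆ i, cj w (F i) := Subgroup.map_iSup _ _
  rw [h1]
  exact iSup_congr fun i => mem_normalizer_iff_cj.mp (h i)

theorem zc_cj (x : G) (B : Subgroup G) : zc (cj x B) = cj x (zc B) :=
  zc_map _ (MulAut.conj x).injective B

/-- Conjugating a block. -/
theorem Blk.map (h : Blk B L V) (g : G) : Blk (cj g B) (cj g L) (cj g V) where
  le := cj_mono g h.le
  gen := by
    refine (cj_mono g h.gen).trans ?_
    have h1 : cj g (⨆ x : L, cj (x : G) B) = ⨆ x : L, cj g (cj (x : G) B) := Subgroup.map_iSup _ _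
    rw [h1]
    refine iSup_le fun x => ?_
    have hx : g * x * g⁻¹ ∈ cj g L := by
      rw [mem_cj]
      have : g⁻¹ * (g * (x : G) * g⁻¹) * g = x := by group
      rw [this]
      exact x.2
    refine le_trans ?_ (le_iSup (fun y : (cj g L : Subgroup G) => cj (y : G) (cj g B))
      ⟨g * x * g⁻¹, hx⟩)
    change cj g (cj (x : G) B) ≤ cj (g * x * g⁻¹) (cj g B)
    rw [cj_cj, cj_cj]
    have : g * (x : G) * g⁻¹ * g = g * x := by group
    rw [this]
  VL := cj_mono g h.VL
  nor := by
    intro w hw1 hw2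
    have e : ∀ K : Subgroup G, w ∈ normalizer ((cj g K : Subgroup G) : Set G) ↔
        g⁻¹ * w * g ∈ normalizer (K : Set G) := by
      intro K
      rw [← cj_normalizer, mem_cj]
    have h2 : zl (cj g B) (cj g L) = cj g (zl B L) := zl_map _ (MulAut.conj g).injective B L
    rw [h2, e] at hw2
    rw [e] at hw1 ⊢
    exact h.nor _ hw1 hw2
  cent := by
    rw [pCore_cj, ← cj_centralizer]
    exact cj_mono g h.cent
  rigid := by
    intro w hw2 hwn hwc
    rw [← cj_centralizer, mem_cj]
    refine h.rigid _ ?_ ?_ fun x hx => ?_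
    · have h1 : zpowers (g⁻¹ * w * g) ≤ cj g⁻¹ (zpowers w) := by
        rw [zpowers_le, mem_cj]
        have : g⁻¹⁻¹ * (g⁻¹ * w * g) * g⁻¹ = w := by group
        rw [this]
        exact mem_zpowers w
      exact (isPGroup_cj g⁻¹ hw2).to_le h1
    · rw [← cj_normalizer, mem_cj] at hwn
      exact hwn
    · have hx' : g * x * g⁻¹ ∈ cj g L := by
        rw [mem_cj]
        have : g⁻¹ * (g * x * g⁻¹) * g = x := by group
        rwa [this]
      have h1 := hwc _ hx'
      rw [← cj_centralizer, mem_cj] at h1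
      have h2 : g⁻¹ * w * g * x * (g⁻¹ * w * g)⁻¹ * x⁻¹ =
          g⁻¹ * (w * (g * x * g⁻¹) * w⁻¹ * (g * x * g⁻¹)⁻¹) * g := by group
      rw [h2]
      exact h1

/-! ### (K) -/

section K

variable [Finite G]

/-- The Baumann conjugates in a block are normalised by `O₂(H)`, `L ≤ H`. -/
theorem o2_le_normalizer_cj (S : Sylow 2 G) (h : Blk (bau (S : Subgroup G)) L V) {H : Subgroup G}
    (hL : L ≤ H) {x : G} (hx : x ∈ L) :
    o2 H ≤ normalizer ((cj x (bau (S : Subgroup G)) : Subgroup G) : Set G) := by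
  have h1 : cj x (bau (S : Subgroup G)) ≤ H := (cj_le_of_mem h.le hx).trans hL
  have h2 : IsPGroup 2 (cj x (bau (S : Subgroup G)) : Subgroup G) :=
    isPGroup_cj x (S.isPGroup'.to_le (ChoiceBase.bau_le _))
  have h3 : IsPGroup 2 (cj x (bau (S : Subgroup G)) ⊔ o2 H : Subgroup G) :=
    IsPGroup.to_sup_of_normal_right' h2 (isPGroup_o2 H) (h1.trans (le_normalizer_o2 H))
  exact le_sup_right.trans (le_normalizer_cj_bau S x h3 le_sup_left)

/-- (K) The module of a block contained in a group `H` with `C_H(O₂(H)) ≤ O₂(H)` lies in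
`Z(O₂(H))`. -/
theorem Blk.le_o2 (S : Sylow 2 G) (h : Blk (bau (S : Subgroup G)) L V) {H : Subgroup G}
    (hH : H ⊓ centralizer (o2 H : Set G) ≤ o2 H) (hL : L ≤ H) :
    V ≤ o2 H ⊓ centralizer (o2 H : Set G) := by
  have hn : ∀ w ∈ o2 H, ∀ x ∈ L, w ∈ normalizer ((cj x (bau (S : Subgroup G)) : Subgroup G) :
      Set G) := fun w hw x hx => o2_le_normalizer_cj S h hL hx hw
  have hnL : ∀ w ∈ o2 H, w ∈ normalizer (L : Set G) := by
    intro w hw
    rw [h.eq_iSup]
    exact mem_normalizer_iSup fun x => hn w hw x x.2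
  have hnZ : ∀ w ∈ o2 H, w ∈ normalizer (zl (bau (S : Subgroup G)) L : Set G) := by
    intro w hw
    refine mem_normalizer_iSup fun x => ?_
    have h1 := normalizer_le_normalizer_zc _ (hn w hw x x.2)
    rwa [zc_cj] at h1
  have hc : ∀ w ∈ o2 H, w ∈ centralizer (V : Set G) := by
    intro w hw
    refine h.rigid w ?_ (h.nor w (hnL w hw) (hnZ w hw)) fun x hx => ?_
    · exact (isPGroup_o2 H).to_le (by rwa [zpowers_le])
    · apply h.cent
      have h1 : o2 H ⊓ L ≤ o2 L := by
        refine ZN.le_o2 inf_le_right ((isPGroup_o2 H).to_le inf_le_left) ?_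
        intro y hy
        rw [mem_normalizer_iff_cj, cj_inf,
          cj_eq_of_mem_normalizer ((le_normalizer_o2 H) (hL hy)),
          cj_eq_of_mem_normalizer (Subgroup.le_normalizer hy)]
      refine h1 ⟨?_, ?_⟩
      · have h2 : x * w⁻¹ * x⁻¹ ∈ o2 H :=
          (mem_normalizer_iff.mp ((le_normalizer_o2 H) (hL hx)) _).mp ((o2 H).inv_mem hw)
        have h3 : w * x * w⁻¹ * x⁻¹ = w * (x * w⁻¹ * x⁻¹) := by group
        rw [h3]
        exact (o2 H).mul_mem hw h2
      · have h2 : w * x * w⁻¹ ∈ L := (mem_normalizer_iff.mp (hnL w hw) _).mp hx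
        exact L.mul_mem h2 (L.inv_mem hx)
  have h4 : V ≤ centralizer (o2 H : Set G) := by
    intro v hv
    rw [mem_centralizer_iff]
    intro w hw
    exact (mem_centralizer_iff.mp (hc w hw) v hv).symm
  exact le_inf (fun v hv => hH ⟨hL (h.VL hv), h4 hv⟩) h4

/-- Corollary 1: two blocks (over Baumann subgroups of Sylow subgroups) in a common `H` with
`C_H(O₂(H)) ≤ O₂(H)` have commuting modules. -/
theorem commute_of_common (S S' : Sylow 2 G) {L' V' : Subgroup G}
    (h : Blk (bau (S : Subgroup G)) L V) (h' : Blk (bau (S' : Subgroup G)) L' V')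
    {H : Subgroup G} (hH : H ⊓ centralizer (o2 H : Set G) ≤ o2 H) (hL : L ≤ H) (hL' : L' ≤ H) :
    ∀ v ∈ V, ∀ w ∈ V', v * w = w * v := by
  intro v hv w hw
  have h1 := h.le_o2 S hH hL hv
  have h2 := h'.le_o2 S' hH hL' hw
  exact mem_centralizer_iff.mp h2.2 v h1.1

/-- Corollary 1 in a group of characteristic 2 type: `L, L' ≤ N_G(U)`, `U ≠ 1` a 2-subgroup. -/
theorem commute_of_local (hG : IsCharacteristicTwoType G) (S S' : Sylow 2 G) {L' V' : Subgroup G}
    (h : Blk (bau (S : Subgroup G)) L V) (h' : Blk (bau (S' : Subgroup G)) L' V')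
    {U : Subgroup G} (hU : IsPGroup 2 U) (hU1 : U ≠ ⊥) (hL : L ≤ normalizer (U : Set G))
    (hL' : L' ≤ normalizer (U : Set G)) : ∀ v ∈ V, ∀ w ∈ V', v * w = w * v :=
  commute_of_common S S' h h' (MinSimple.Basic.char2_normalizer hG hU hU1) hL hL'

/-- Noncommuting modules: no nontrivial 2-subgroup is normalised by both blocks. -/
theorem eq_bot_of_not_commute (hG : IsCharacteristicTwoType G) (S S' : Sylow 2 G)
    {L' V' : Subgroup G} (h : Blk (bau (S : Subgroup G)) L V)
    (h' : Blk (bau (S' : Subgroup G)) L' V') {v w : G} (hv : v ∈ V) (hw : w ∈ V')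
    (hvw : v * w ≠ w * v) (U : Subgroup G) (hU : IsPGroup 2 U)
    (hL : L ≤ normalizer (U : Set G)) (hL' : L' ≤ normalizer (U : Set G)) : U = ⊥ := by
  by_contra hU1
  exact hvw (commute_of_local hG S S' h h' hU hU1 hL hL' v hv w hw)

end K

end Cfsg.Agent.Omega.LemmaK.Main
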