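import Cfsg.Agent.Omega.LemmaK.Main
import Cfsg.Agent.ClassificationK.TIPairBasic

/-!
# LEMMA K: making blocks

* `endo_of_irr` : if `V` is an abelian 2-group, `V / C_V(L)` is irreducible and `V = [V, L]`, then
  a 2-group acting on `V` and commuting there with `L` centralises `V`;
* `rigid_of_irr` : the field `rigid` of `LemmaK.Main.Blk`;
* `Blk.of_irr` : a block from `L = ⟨B ^ L⟩`, `V ≤ L`, `O₂(L) ≤ C(V)`, `V / C_V(L)` irreducible;
* `norm_zl`, `norm_vl` : `V = vl B L` satisfies `nor`.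
-/

set_option autoImplicit false

namespace Cfsg.Agent.Omega.LemmaK.Endo

open Subgroup Cfsg Cfsg.Agent.ZN Cfsg.Agent.ZN.ChoiceBase
open Cfsg.Agent.Omega.LemmaK.Main
open scoped commutatorElement

universe u

variable {G : Type u} [Group G] {B L V : Subgroup G}

/-- The axiom `endo` when `V / C_V(L)` is irreducible and `V = [V, L]`. -/
theorem endo_of_irr [Finite G] (hV : IsPGroup 2 V) (hVc : ∀ x ∈ V, ∀ y ∈ V, x * y = y * x)
    (hLV : L ≤ normalizer (V : Set G)) (hVL : V ≤ ⁅V, L⁆)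
    (hirr : ∀ U : Subgroup G, U ≤ V → V ⊓ centralizer (L : Set G) ≤ U →
      L ≤ normalizer (U : Set G) → ¬ U ≤ V ⊓ centralizer (L : Set G) → V ≤ U)
    (W : Subgroup G) (hW : IsPGroup 2 W) (hWV : W ≤ normalizer (V : Set G))
    (hWL : ∀ w ∈ W, ∀ x ∈ L, w * x * w⁻¹ * x⁻¹ ∈ centralizer (V : Set G)) :
    W ≤ centralizer (V : Set G) := by
  have : Fact (Nat.Prime 2) := ⟨Nat.prime_two⟩
  set C := V ⊓ centralizer (L : Set G) with hC
  have hcj : ∀ {g v : G}, g ∈ normalizer (V : Set G) → v ∈ V → g * v * g⁻¹ ∈ V :=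
    fun hg hv => (mem_normalizer_iff.1 hg _).1 hv
  -- `w` and `x` commute on `V`
  have hwx : ∀ w ∈ W, ∀ x ∈ L, ∀ v ∈ V,
      x * (w * v * w⁻¹) * x⁻¹ = w * (x * v * x⁻¹) * w⁻¹ := by
    intro w hw x hx v hv
    have h1 : x * (w * v * w⁻¹) * x⁻¹ ∈ V := hcj (hLV hx) (hcj (hWV hw) hv)
    have h2 := mem_centralizer_iff.1 (hWL w hw x hx) _ h1
    -- `(x w v w⁻¹ x⁻¹) (w x w⁻¹ x⁻¹) = (w x w⁻¹ x⁻¹) (x w v w⁻¹ x⁻¹)`
    have h3 : w * x * w⁻¹ * x⁻¹ * (x * (w * v * w⁻¹) * x⁻¹) = w * x * v * w⁻¹ * x⁻¹ := by group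
    rw [h3] at h2
    have h4 : x * (w * v * w⁻¹) * x⁻¹ = w * x * v * w⁻¹ * x⁻¹ * (w * x * w⁻¹ * x⁻¹)⁻¹ := by
      rw [← h2]; group
    rw [h4]; group
  -- `C` is `W`-invariant
  have hCW : ∀ w ∈ W, ∀ c ∈ C, w * c * w⁻¹ ∈ C := by
    intro w hw c hc
    refine ⟨hcj (hWV hw) hc.1, mem_centralizer_iff.2 fun x hx => ?_⟩
    have h1 := hwx w hw x hx c hc.1
    have h2 : x * c * x⁻¹ = c := by
      rw [mem_centralizer_iff.1 hc.2 x hx]; group
    rw [h2] at h1
    calc x * (w * c * w⁻¹) = x * (w * c * w⁻¹) * x⁻¹ * x := by group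
      _ = w * c * w⁻¹ * x := by rw [h1]
  by_cases hVC : V ≤ C
  · -- then `V = [V, L] = 1`
    have h1 : ⁅V, L⁆ = ⊥ := by
      rw [Subgroup.commutator_eq_bot_iff_le_centralizer]
      exact hVC.trans inf_le_right
    rw [h1, le_bot_iff] at hVL
    rw [hVL]
    intro w _
    rw [mem_centralizer_iff]
    intro x hx
    have : x = 1 := hx
    rw [this]; group
  · -- the subgroup of elements fixed modulo `C`
    let U : Subgroup G :=
      { carrier := {v | v ∈ V ∧ ∀ w ∈ W, v⁻¹ * (w * v * w⁻¹) ∈ C}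
        one_mem' := ⟨one_mem _, fun w _ => by
          have : (1 : G)⁻¹ * (w * 1 * w⁻¹) = 1 := by group
          rw [this]; exact one_mem _⟩
        mul_mem' := by
          rintro a b ⟨ha, ha'⟩ ⟨hb, hb'⟩
          refine ⟨mul_mem ha hb, fun w hw => ?_⟩
          have h1 : (a * b)⁻¹ * (w * (a * b) * w⁻¹) =
              b⁻¹ * (a⁻¹ * (w * a * w⁻¹)) * (w * b * w⁻¹) := by group
          have h2 : b⁻¹ * (a⁻¹ * (w * a * w⁻¹)) = a⁻¹ * (w * a * w⁻¹) * b⁻¹ :=
            hVc _ (inv_mem hb) _ (ha' w hw).1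
          rw [h1, h2]
          have h3 : a⁻¹ * (w * a * w⁻¹) * b⁻¹ * (w * b * w⁻¹) =
              a⁻¹ * (w * a * w⁻¹) * (b⁻¹ * (w * b * w⁻¹)) := by group
          rw [h3]
          exact mul_mem (ha' w hw) (hb' w hw)
        inv_mem' := by
          rintro a ⟨ha, ha'⟩
          refine ⟨inv_mem ha, fun w hw => ?_⟩
          have h1 : a⁻¹⁻¹ * (w * a⁻¹ * w⁻¹) = (w * a * w⁻¹ * a⁻¹)⁻¹ := by group
          have h2 : w * a * w⁻¹ * a⁻¹ = a⁻¹ * (w * a * w⁻¹) :=
            hVc _ (hcj (hWV hw) ha) _ (inv_mem ha)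
          rw [h1, h2]
          exact inv_mem (ha' w hw) }
    obtain ⟨z, hzV, hzC, hz⟩ := ClassificationK.TIPair.exists_fixed_mod (p := 2) (P := W)
      (V := C) (N := V) hW hV hVC hCW (fun w hw v hv => hcj (hWV hw) hv)
    have hUV : V ≤ U := by
      refine hirr U (fun v hv => hv.1) (fun c hc => ⟨hc.1, fun w hw => ?_⟩) ?_
        (fun h => hzC (h ⟨hzV, hz⟩))
      · exact mul_mem (inv_mem hc) (hCW w hw c hc)
      · intro x hx
        refine mem_normalizer_of_cj_le ?_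
        rintro _ ⟨v, ⟨hv, hv'⟩, rfl⟩
        refine ⟨hcj (hLV hx) hv, fun w hw => ?_⟩
        have h1 : w * (x * v * x⁻¹) * w⁻¹ = x * (w * v * w⁻¹) * x⁻¹ := (hwx w hw x hx v hv).symm
        have h2 : (x * v * x⁻¹)⁻¹ * (w * (x * v * x⁻¹) * w⁻¹) =
            x * (v⁻¹ * (w * v * w⁻¹)) * x⁻¹ := by rw [h1]; group
        change (x * v * x⁻¹)⁻¹ * (w * (x * v * x⁻¹) * w⁻¹) ∈ C
        rw [h2]
        have h3 : x * (v⁻¹ * (w * v * w⁻¹)) * x⁻¹ = v⁻¹ * (w * v * w⁻¹) := by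
          rw [mem_centralizer_iff.1 (hv' w hw).2 x hx]; group
        rw [h3]
        exact hv' w hw
    -- now `[V, L] ≤ C_V(w)`
    intro w hw
    rw [mem_centralizer_iff]
    have h5 : ⁅V, L⁆ ≤ centralizer ({w} : Set G) := by
      rw [Subgroup.commutator_le]
      intro v hv x hx
      rw [mem_centralizer_singleton_iff]
      have h6 := (hUV hv).2 w hw
      -- `w v w⁻¹ = v c`, `c ∈ C`
      set c := v⁻¹ * (w * v * w⁻¹) with hc
      have h7 : w * v * w⁻¹ = v * c := by rw [hc]; group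
      have h8 : w * (x * v * x⁻¹) * w⁻¹ = x * v * x⁻¹ * c := by
        rw [← hwx w hw x hx v hv, h7]
        have h9 : x * c = c * x := mem_centralizer_iff.1 h6.2 x hx
        calc x * (v * c) * x⁻¹ = x * v * (c * x⁻¹) := by group
          _ = x * v * (x⁻¹ * c) := by
            congr 1
            calc c * x⁻¹ = x⁻¹ * (x * c) * x⁻¹ := by group
              _ = x⁻¹ * (c * x) * x⁻¹ := by rw [h9]
              _ = x⁻¹ * c := by group
          _ = x * v * x⁻¹ * c := by group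
      have hcV : c ∈ V := h6.1
      have h10 : c * (x * v⁻¹ * x⁻¹) = x * v⁻¹ * x⁻¹ * c :=
        hVc _ hcV _ (hcj (hLV hx) (inv_mem hv))
      have h11 : w * ⁅v, x⁆ * w⁻¹ = ⁅v, x⁆ := by
        rw [commutatorElement_def]
        have e1 : w * (v * x * v⁻¹ * x⁻¹) * w⁻¹ =
            (w * v * w⁻¹) * (w * (x * v * x⁻¹) * w⁻¹)⁻¹ := by group
        rw [e1, h7, h8]
        group
      calc ⁅v, x⁆ * w = w * ⁅v, x⁆ * w⁻¹ * w := by rw [h11]
        _ = w * ⁅v, x⁆ := by group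
    intro v hv
    have h12 := mem_centralizer_singleton_iff.1 (h5 (hVL hv))
    exact h12

/-- The field `rigid` of a block. -/
theorem rigid_of_irr [Finite G] (hV : IsPGroup 2 V) (hVc : ∀ x ∈ V, ∀ y ∈ V, x * y = y * x)
    (hLV : L ≤ normalizer (V : Set G)) (hVL : V ≤ ⁅V, L⁆)
    (hirr : ∀ U : Subgroup G, U ≤ V → V ⊓ centralizer (L : Set G) ≤ U →
      L ≤ normalizer (U : Set G) → ¬ U ≤ V ⊓ centralizer (L : Set G) → V ≤ U)
    (w : G) (hw2 : IsPGroup 2 (zpowers w)) (hwV : w ∈ normalizer (V : Set G))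
    (hwL : ∀ x ∈ L, w * x * w⁻¹ * x⁻¹ ∈ centralizer (V : Set G)) :
    w ∈ centralizer (V : Set G) := by
  have hcn : ∀ {g c : G}, g ∈ normalizer (V : Set G) → c ∈ centralizer (V : Set G) →
      g * c * g⁻¹ ∈ centralizer (V : Set G) := by
    intro g c hg hc
    rw [mem_centralizer_iff] at hc ⊢
    intro v hv
    have h1 : g⁻¹ * v * g ∈ V := by
      have h2 := (mem_normalizer_iff.1 (inv_mem hg) v).1 hv
      rwa [inv_inv] at h2
    have h3 := hc _ h1
    calc v * (g * c * g⁻¹) = g * ((g⁻¹ * v * g) * c) * g⁻¹ := by group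
      _ = g * (c * (g⁻¹ * v * g)) * g⁻¹ := by rw [h3]
      _ = g * c * g⁻¹ * v := by group
  -- the elements of `G` normalising `V` and commuting with `L` on `V` form a subgroup
  let D : Subgroup G :=
    { carrier := {y | y ∈ normalizer (V : Set G) ∧
        ∀ x ∈ L, y * x * y⁻¹ * x⁻¹ ∈ centralizer (V : Set G)}
      one_mem' := ⟨one_mem _, fun x _ => by
        have : (1 : G) * x * 1⁻¹ * x⁻¹ = 1 := by group
        rw [this]; exact one_mem _⟩
      mul_mem' := by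
        rintro a b ⟨ha, ha'⟩ ⟨hb, hb'⟩
        refine ⟨mul_mem ha hb, fun x hx => ?_⟩
        have h1 : a * b * x * (a * b)⁻¹ * x⁻¹ =
            (a * (b * x * b⁻¹ * x⁻¹) * a⁻¹) * (a * x * a⁻¹ * x⁻¹) := by group
        rw [h1]
        exact mul_mem (hcn ha (hb' x hx)) (ha' x hx)
      inv_mem' := by
        rintro a ⟨ha, ha'⟩
        refine ⟨inv_mem ha, fun x hx => ?_⟩
        have h1 : a⁻¹ * x * a⁻¹⁻¹ * x⁻¹ = a⁻¹ * (a * x * a⁻¹ * x⁻¹)⁻¹ * a⁻¹⁻¹ := by group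
        rw [h1]
        exact hcn (inv_mem ha) (inv_mem (ha' x hx)) }
  have hD : zpowers w ≤ D := by
    rw [zpowers_le]
    exact ⟨hwV, hwL⟩
  exact endo_of_irr hV hVc hLV hVL hirr (zpowers w) hw2 (fun y hy => (hD hy).1)
    (fun y hy => (hD hy).2) (mem_zpowers w)

/-- An element normalising `L` and `zl B L` normalises `vl B L = [zl B L, L]`. -/
theorem norm_vl {w : G} (h1 : w ∈ normalizer (L : Set G))
    (h2 : w ∈ normalizer (zl B L : Set G)) : w ∈ normalizer (vl B L : Set G) := by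
  rw [mem_normalizer_iff_cj] at h1 h2 ⊢
  rw [vl]
  change Subgroup.map _ ⁅zl B L, L⁆ = _
  rw [Subgroup.map_commutator]
  change ⁅ChoiceBase.cj w (zl B L), ChoiceBase.cj w L⁆ = _
  rw [h1, h2]

/-- The same for `V = [zl B L, O²(L)]`. -/
theorem norm_comm_rl {w : G} {K : Subgroup G} (hK : w ∈ normalizer (K : Set G))
    (h2 : w ∈ normalizer (zl B L : Set G)) : w ∈ normalizer ((⁅zl B L, K⁆ : Subgroup G) : Set G) := by
  rw [mem_normalizer_iff_cj] at hK h2 ⊢
  change Subgroup.map _ ⁅zl B L, K⁆ = _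
  rw [Subgroup.map_commutator]
  change ⁅ChoiceBase.cj w (zl B L), ChoiceBase.cj w K⁆ = _
  rw [hK, h2]

/-- A block from an irreducible `V / C_V(L)`. -/
theorem _root_.Cfsg.Agent.Omega.LemmaK.Main.Blk.of_irr [Finite G] (hle : B ≤ L)
    (hgen : L ≤ ⨆ x : L, cj (x : G) B) (hVL : V ≤ L)
    (hnor : ∀ w : G, w ∈ normalizer (L : Set G) → w ∈ normalizer (zl B L : Set G) →
      w ∈ normalizer (V : Set G)) (hcent : o2 L ≤ centralizer (V : Set G))
    (hV : IsPGroup 2 V) (hVc : ∀ x ∈ V, ∀ y ∈ V, x * y = y * x) (hVL' : V ≤ ⁅V, L⁆)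
    (hirr : ∀ U : Subgroup G, U ≤ V → V ⊓ centralizer (L : Set G) ≤ U →
      L ≤ normalizer (U : Set G) → ¬ U ≤ V ⊓ centralizer (L : Set G) → V ≤ U) :
    Blk B L V where
  le := hle
  gen := hgen
  VL := hVL
  nor := hnor
  cent := hcent
  rigid := fun w hw2 hwV hwL => by
    refine rigid_of_irr hV hVc (fun x hx => hnor x (Subgroup.le_normalizer hx) ?_) hVL' hirr w hw2
      hwV hwL
    refine mem_normalizer_of_cj_le ?_
    rw [zl]
    change Subgroup.map _ _ ≤ _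
    rw [Subgroup.map_iSup]
    refine iSup_le fun g => ?_
    change ChoiceBase.cj x (ChoiceBase.cj (g : G) (zc B)) ≤ _
    rw [cj_cj]
    exact le_iSup (fun g : L => (zc B).map (MulAut.conj (g : G)).toMonoidHom)
      ⟨x * g, L.mul_mem hx g.2⟩


end Cfsg.Agent.Omega.LemmaK.Endo
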