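import Cfsg.Agent.Omega.SQ1.BauKL
import Cfsg.Agent.Omega.LemmaK.Endo
import Cfsg.Agent.PLocal.OffenderStep

/-!
# LEMMA K: the Baumann blocks of a minimal parabolic with natural summands are blocks

`h : InK H T Q V ⊥ N A q` (several natural `SL₂(q)`-summands, `C_V(O²(H)) = 1`), `k : BlkK H T V N i L` (a minimal
block over `B = bau T` acting on `N i`): `L` is a block over `B` with module `N i` in the sense of LEMMA K, and
`L` centralises the lines of the other summands.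
-/

set_option autoImplicit false
set_option linter.unusedSectionVars false

namespace Cfsg.Agent.Omega.LemmaK.OfInK

open Subgroup Cfsg Cfsg.Agent.PLocal.ThompsonJ Cfsg.Agent.ZN Cfsg.Agent.ZN.ChoiceBase
open Cfsg.Agent.Omega.SQ1.Bau (Mv exists_min)
open Cfsg.Agent.Omega.SQ1.BauK
open Cfsg.Agent.Omega.SQ1.BauK.InK (St VL mem_St comm_iff)
open scoped Pointwise commutatorElement

universe u

variable {G : Type u} [Group G] [Finite G] {H T Q V L : Subgroup G} {ι : Type} {N A : ι → Subgroup G}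
  {q : ℕ} {i : ι}

theorem card_line (h : InK H T Q V ⊥ N A q) (i : ι) : Nat.card ↥(V1 T V ⊓ N i) = q := by
  rw [h.card0 i, Subgroup.card_bot, one_mul]

/-- `A i` moves a vector outside the line to its whole coset modulo the line. -/
theorem exists_comm (h : InK H T Q V ⊥ N A q) {u w : G} (hu : u ∈ N i) (hu1 : u ∉ V1 T V)
    (hw : w ∈ V1 T V ⊓ N i) : ∃ a ∈ A i, a * u * a⁻¹ * u⁻¹ = w := by
  have hAJ : ∀ a ∈ A i, a ∈ jj T := fun a ha => le_jj (h.AT i) ha
  have hW1 : ∀ a ∈ A i, a * u * a⁻¹ * u⁻¹ ∈ V1 T V ⊓ N i := fun a ha => h.quad_i (hAJ a ha) hu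
  let φ : ↥(A i) →* ↥(V1 T V ⊓ N i : Subgroup G) := MonoidHom.mk'
    (fun a => ⟨(a : G) * u * (a : G)⁻¹ * u⁻¹, hW1 a a.2⟩) (by
      intro a b
      apply Subtype.ext
      have h1 := (mem_V1.1 (hW1 b b.2).1).2 a (hAJ a a.2)
      show ((a : G) * b) * u * ((a : G) * b)⁻¹ * u⁻¹ = (a : G) * u * (a : G)⁻¹ * u⁻¹ * ((b : G) * u * (b : G)⁻¹ * u⁻¹)
      have e : ((a : G) * b) * u * ((a : G) * b)⁻¹ * u⁻¹ =
          ((a : G) * ((b : G) * u * (b : G)⁻¹ * u⁻¹)) * (u * (a : G)⁻¹ * u⁻¹) := by group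
      rw [e, h1]
      have h2 := h.Vcomm _ (h.NV i (hW1 b b.2).2) _ (h.NV i (hW1 a a.2).2)
      calc (b : G) * u * (b : G)⁻¹ * u⁻¹ * (a : G) * (u * (a : G)⁻¹ * u⁻¹)
          = ((b : G) * u * (b : G)⁻¹ * u⁻¹) * ((a : G) * u * (a : G)⁻¹ * u⁻¹) := by group
        _ = _ := h2)
  have hker : φ.ker = (A i ⊓ Q).subgroupOf (A i) := by
    ext a
    rw [MonoidHom.mem_ker, mem_subgroupOf, mem_inf]
    constructor
    · intro h0
      refine ⟨a.2, ?_⟩
      have h1 : (a : G) * u = u * a := by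
        have := congrArg Subtype.val h0
        have h2 : (a : G) * u * (a : G)⁻¹ * u⁻¹ = 1 := this
        rw [mul_inv_eq_one, mul_inv_eq_iff_eq_mul] at h2
        exact h2
      refine h.cT a ((h.AT i).2.1 a.2) fun v hv => ?_
      have h3 : ∀ v ∈ N i, (a : G) * v = v * a := by
        by_contra hc
        push Not at hc
        obtain ⟨v, hv, hne⟩ := hc
        exact hu1 (h.cb i a (hAJ a a.2) ⟨v, hv, hne⟩ u hu h1)
      have h4 : (⨆ j, N j) ≤ centralizer ({(a : G)} : Set G) := by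
        refine iSup_le fun j w hw => mem_centralizer_iff.2 fun x hx => ?_
        rw [show x = (a : G) from hx]
        by_cases hij : i = j
        · subst hij; exact h3 w hw
        · exact h.Acent i j hij a a.2 w hw
      exact mem_centralizer_iff.1 (h4 (h.Nsup hv)) a rfl
    · rintro ⟨-, haQ⟩
      apply Subtype.ext
      show (a : G) * u * (a : G)⁻¹ * u⁻¹ = 1
      rw [h.VcQ a haQ u (h.NV i hu)]
      group
  have h1 : Nat.card (A i) = Nat.card φ.ker * Nat.card φ.range := by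
    rw [← φ.ker.card_mul_index, Subgroup.index_ker]
  have h2 : Nat.card φ.ker = Nat.card ↥(A i ⊓ Q) := by
    rw [hker]
    exact Nat.card_congr (Subgroup.subgroupOfEquivOfLe inf_le_left).toEquiv
  have h3 : Nat.card φ.range = q := by
    rw [h2, h.Acard i] at h1
    exact (Nat.eq_of_mul_eq_mul_left Nat.card_pos h1).symm
  have h4 : φ.range = ⊤ := by
    apply Subgroup.eq_top_of_card_eq
    rw [h3, card_line h i]
  have h5 : (⟨w, hw⟩ : ↥(V1 T V ⊓ N i : Subgroup G)) ∈ φ.range := by rw [h4]; trivial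
  obtain ⟨a, ha⟩ := h5
  exact ⟨a, a.2, congrArg Subtype.val ha⟩

/-- `L` is irreducible on `N i`. -/
theorem irr (k : BlkK H T V N i L) (h : InK H T Q V ⊥ N A q) {U : Subgroup G} (hU : U ≤ N i)
    (hn : L ≤ normalizer (U : Set G)) (hne : U ≠ ⊥) : N i ≤ U := by
  obtain ⟨l, hl, hm⟩ := k.mv
  have hlS : l ∈ St H (N i) := k.LS h hl
  have hJL : ∀ a ∈ A i, a ∈ L := fun a ha => k.BL (ChoiceBase.jj_le_bau T (le_jj (h.AT i) ha))
  -- some element of `U` outside the line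
  have h1 : ∃ u ∈ U, u ∉ V1 T V := by
    by_contra hc
    push Not at hc
    obtain ⟨u, hu, hu1⟩ := (Subgroup.bot_or_exists_ne_one U).resolve_left hne
    have h2 : u ∈ V1 T V ⊓ N i := ⟨hc u hu, hU hu⟩
    have h3 : l * u * l⁻¹ ∈ U := (mem_normalizer_iff.1 (hn hl) u).1 hu
    have h4 := (h.pl i).opp l hlS hm u h2 ⟨hc _ h3, hU h3⟩
    rw [mem_bot] at h4
    apply hu1
    have : u = l⁻¹ * (l * u * l⁻¹) * l := by group
    rw [this, h4]
    group
  obtain ⟨u, hu, hu1⟩ := h1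
  have h2 : V1 T V ⊓ N i ≤ U := by
    intro w hw
    obtain ⟨a, ha, e⟩ := exists_comm h (hU hu) hu1 hw
    rw [← e]
    exact mul_mem ((mem_normalizer_iff.1 (hn (hJL a ha)) u).1 hu) (inv_mem hu)
  rw [← (h.pl i).sup_conj hlS hm]
  refine sup_le h2 ?_
  have h3 := cj_mono l h2
  rwa [cj_eq_of_mem_normalizer (hn hl)] at h3

theorem V_le_bau (h : InK H T Q V ⊥ N A q) : V ≤ bau T := by
  intro v hv
  exact mem_bau.2 ⟨h.QT (h.VQ hv), fun z hz => h.VcQ z (h.Z_le_Q hz) v hv⟩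

theorem V1_le_zj (h : InK H T Q V ⊥ N A q) : V1 T V ≤ zj T := by
  intro v hv
  obtain ⟨hvV, hvc⟩ := mem_V1.1 hv
  obtain ⟨E, hE, -, hVE⟩ := h.exists_AQ
  exact mem_zj.2 ⟨le_jj hE (hVE hvV), h.Vsq v hvV, hvc⟩

theorem zl_le (k : BlkK H T V N i L) (h : InK H T Q V ⊥ N A q) : zl (bau T) L ≤ VL T (N i) := by
  rw [zl]
  refine iSup_le fun x => ?_
  rintro _ ⟨z, hz, rfl⟩
  refine h.PP_VL (k.LP x.2) ?_
  have hz' : z ∈ zc (bau T) := hz
  rw [ChoiceBase.zc_bau] at hz'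
  exact mem_sup_left hz'

theorem zj_le_zl (L : Subgroup G) : zj T ≤ zl (bau T) L := by
  intro z hz
  rw [← ChoiceBase.zc_bau T] at hz
  have h1 : (zc (bau T)).map (MulAut.conj ((1 : L) : G)).toMonoidHom ≤ zl (bau T) L :=
    le_iSup (fun x : L => (zc (bau T)).map (MulAut.conj (x : G)).toMonoidHom) 1
  refine h1 ⟨z, hz, ?_⟩
  simp

/-- `[V_L, L] ≤ N i`. -/
theorem comm_VL (k : BlkK H T V N i L) (h : InK H T Q V ⊥ N A q) {x y : G} (hx : x ∈ L)
    (hy : y ∈ VL T (N i)) : x * y * x⁻¹ * y⁻¹ ∈ N i := by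
  obtain ⟨r, hr, b, hb, rfl⟩ := h.mem_PP (k.LP hx)
  obtain ⟨z, hz, v, hv, rfl⟩ := h.mem_VL hy
  have hbz : b * z = z * b := ((mem_bau.1 hb).2 z hz).symm
  have hv' : b * v * b⁻¹ ∈ N i := h.bau_N hb hv
  have e1 : b * (z * v) * b⁻¹ = z * (b * v * b⁻¹) := by
    calc b * (z * v) * b⁻¹ = (b * z) * v * b⁻¹ := by group
      _ = z * b * v * b⁻¹ := by rw [hbz]
      _ = z * (b * v * b⁻¹) := by group
  have h2 := (mem_RR.1 hr).2.2.2 (z * (b * v * b⁻¹)) (mul_mem (mem_sup_left hz)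
    (mem_sup_right (h.NV i hv')))
  have e2 : r * b * (z * v) * (r * b)⁻¹ * (z * v)⁻¹ =
      (r * (z * (b * v * b⁻¹)) * r⁻¹ * (z * (b * v * b⁻¹))⁻¹) *
        (z * ((b * v * b⁻¹) * v⁻¹) * z⁻¹) := by
    have e3 : r * b * (z * v) * (r * b)⁻¹ * (z * v)⁻¹ = r * (b * (z * v) * b⁻¹) * r⁻¹ * (z * v)⁻¹ := by
      group
    rw [e3, e1]
    group
  rw [e2]
  have h3 : (b * v * b⁻¹) * v⁻¹ ∈ N i := mul_mem hv' (inv_mem hv)
  have h4 : z * ((b * v * b⁻¹) * v⁻¹) * z⁻¹ = (b * v * b⁻¹) * v⁻¹ := by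
    have h5 := h.VcQ z (h.Z_le_Q hz) _ (h.NV i h3)
    rw [h5]
    group
  rw [h4]
  exact mul_mem h2 h3

/-- The module of the block is the commutator `vl B L`. -/
theorem eq_vl (k : BlkK H T V N i L) (h : InK H T Q V ⊥ N A q) : vl (bau T) L = N i := by
  have hz : ∀ x ∈ L, cj x (zl (bau T) L) ≤ zl (bau T) L := by
    intro x hx
    rw [zl]
    change Subgroup.map _ _ ≤ _
    rw [Subgroup.map_iSup]
    refine iSup_le fun g => ?_
    change ChoiceBase.cj x (ChoiceBase.cj (g : G) (zc (bau T))) ≤ _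
    rw [cj_cj]
    exact le_iSup (fun g : L => (zc (bau T)).map (MulAut.conj (g : G)).toMonoidHom)
      ⟨x * g, L.mul_mem hx g.2⟩
  have h1 : vl (bau T) L ≤ N i := by
    rw [vl, commutator_comm, commutator_le]
    intro x hx y hy
    rw [commutatorElement_def]
    exact comm_VL k h hx (zl_le k h hy)
  refine le_antisymm h1 (irr k h h1 ?_ ?_)
  · intro x hx
    exact norm_vl' hx hz
  · intro h0
    obtain ⟨l, hl, w, hw, hne⟩ := k.mv
    have h2 : ⁅w, l⁆ ∈ vl (bau T) L :=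
      commutator_mem_commutator (zj_le_zl L (V1_le_zj h hw.1)) hl
    rw [h0, mem_bot, commutatorElement_eq_one_iff_mul_comm] at h2
    apply hne
    rw [← h2]
    simpa using hw
where
  norm_vl' {x : G} (hx : x ∈ L) (hz : ∀ x ∈ L, cj x (zl (bau T) L) ≤ zl (bau T) L) :
      x ∈ normalizer (vl (bau T) L : Set G) :=
    Endo.norm_vl (Subgroup.le_normalizer hx) (mem_normalizer_of_cj_le (hz x hx))

theorem gen (k : BlkK H T V N i L) (h : InK H T Q V ⊥ N A q) : L ≤ ⨆ x : L, cj (x : G) (bau T) := by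
  have hle : (⨆ x : L, cj (x : G) (bau T)) ≤ L := iSup_le fun x => Main.cj_le_of_mem k.BL x.2
  refine k.min _ hle ?_ ?_
  · have h1 : cj ((1 : L) : G) (bau T) ≤ ⨆ x : L, cj (x : G) (bau T) :=
      le_iSup (fun x : L => cj (x : G) (bau T)) 1
    intro b hb
    exact h1 ⟨b, hb, by simp⟩
  · obtain ⟨l, hl, hm⟩ := k.mv
    obtain ⟨a, ha, -, hne⟩ := h.A_exists i
    have haJ := le_jj (h.AT i) ha
    refine ⟨l * a * l⁻¹, ?_, h.moves_jj (k.LS h hl) hm haJ hne⟩
    have h1 : cj l (bau T) ≤ ⨆ x : L, cj (x : G) (bau T) :=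
      le_iSup (fun x : L => cj (x : G) (bau T)) ⟨l, hl⟩
    exact h1 ⟨a, ChoiceBase.jj_le_bau T haJ, rfl⟩

/-- **The Baumann block is a block.** -/
theorem blk (k : BlkK H T V N i L) (h : InK H T Q V ⊥ N A q) : Main.Blk (bau T) L (N i) := by
  have hNp : IsPGroup 2 (N i) := by
    intro x
    refine ⟨1, Subtype.ext ?_⟩
    have := h.Vsq x (h.NV i x.2)
    simpa using this
  have hNL : N i ≤ L := (h.NV i).trans ((V_le_bau h).trans k.BL)
  have hne : N i ≠ ⊥ := fun h0 => h.V0_lt i h0.le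
  have hLN : L ≤ normalizer (N i : Set G) := fun x hx => (k.LS h hx).2
  refine Main.Blk.of_irr k.BL (gen k h) hNL ?_ ?_ hNp
    (fun x hx y hy => h.Vcomm x (h.NV i hx) y (h.NV i hy)) ?_ ?_
  · intro w h1 h2
    rw [← eq_vl k h]
    exact Endo.norm_vl h1 h2
  · have h1 : L ≤ normalizer ((N i ⊓ centralizer (o2 L : Set G) : Subgroup G) : Set G) := by
      intro x hx
      rw [mem_normalizer_iff_cj, cj_inf, cj_eq_of_mem_normalizer (hLN hx), cj_centralizer,
        cj_eq_of_mem_normalizer (le_normalizer_o2 L hx)]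
    have : Fact (Nat.Prime 2) := ⟨Nat.prime_two⟩
    have h2 := irr k h inf_le_left h1 (Cfsg.Agent.PLocal.OffenderStep.inf_centralizer_ne_bot (N i) (o2 L) hNp
      (isPGroup_o2 L) ((o2_le L).trans hLN) hne)
    intro x hx
    rw [mem_centralizer_iff]
    intro v hv
    exact (mem_centralizer_iff.1 (h2 hv).2 x hx).symm
  · refine irr k h ?_ ?_ ?_
    · rw [commutator_comm, commutator_le]
      intro x hx y hy
      rw [commutatorElement_def]
      exact mul_mem ((mem_normalizer_iff.1 (hLN hx) y).1 hy) (inv_mem hy)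
    · intro x hx
      rw [mem_normalizer_iff_cj]
      change Subgroup.map _ ⁅N i, L⁆ = _
      rw [Subgroup.map_commutator]
      change ⁅ChoiceBase.cj x (N i), ChoiceBase.cj x L⁆ = _
      rw [cj_eq_of_mem_normalizer (hLN hx), cj_eq_of_mem_normalizer (Subgroup.le_normalizer hx)]
    · intro h0
      obtain ⟨l, hl, w, hw, hne'⟩ := k.mv
      have h2 : ⁅w, l⁆ ∈ ⁅N i, L⁆ := commutator_mem_commutator hw.2 hl
      rw [h0, mem_bot, commutatorElement_eq_one_iff_mul_comm] at h2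
      apply hne'
      rw [← h2]
      simpa using hw
  · intro U hU hCU hLU hn
    exact irr k h hU hLU fun h0 => hn (by rw [h0]; exact bot_le)

/-- `L` centralises the lines of the other summands. -/
theorem cent_line (k : BlkK H T V N i L) (h : InK H T Q V ⊥ N A q) {j : ι} (hj : i ≠ j) :
    L ≤ centralizer ((V1 T V ⊓ N j : Subgroup G) : Set G) := by
  intro x hx
  rw [mem_centralizer_iff]
  intro v hv
  obtain ⟨r, hr, b, hb, rfl⟩ := h.mem_PP (k.LP hx)
  have h1 : r * v = v * r := (mem_RR.1 hr).2.2.1 j hj v hv.2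
  have h2 : v * b = b * v := (mem_bau.1 hb).2 v (V1_le_zj h hv.1)
  calc v * (r * b) = (v * r) * b := by group
    _ = r * (v * b) := by rw [← h1]; group
    _ = r * b * v := by rw [h2]; group

end Cfsg.Agent.Omega.LemmaK.OfInK
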