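import Cfsg.Agent.Omega.SQ1.BauSBlk
import Cfsg.Agent.Omega.LemmaK.Endo
import Cfsg.Agent.PLocal.OffenderStep

/-!
# LEMMA K: the Baumann blocks for `q = 2` are blocks

`h : In H T Q V N d t r` (the Baumann argument for `S₃ ≀`, `S_{2^m+1}`), `k : Blk H T V d r i L` (a minimal block over
`B = bau T` moving `d i`): `L` is a block over `B` with module `N i` in the sense of LEMMA K (`blk`); for `z ∈ Z_J(T)`
one of `z`, `d i * z` is centralised by `L` (`cent_or`); `L` centralises `d j` for `j ≠ i` (`cent_d`).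
-/

set_option autoImplicit false
set_option linter.unusedSectionVars false

namespace Cfsg.Agent.Omega.LemmaK.OfIn

open Subgroup Cfsg Cfsg.Agent.PLocal.ThompsonJ Cfsg.Agent.ZN Cfsg.Agent.ZN.ChoiceBase
open Cfsg.Agent.Omega.SQ1.BauS
open Cfsg.Agent.Omega.SQ1.BauS.In Cfsg.Agent.Omega.SQ1.BauS.Blk
open scoped Pointwise commutatorElement

universe u w

variable {G : Type u} [Group G] [Finite G] {H T Q V L : Subgroup G} {ι : Type w} {N : ι → Subgroup G}
  {d t r : ι → G} {i : ι}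

/-- `L` is irreducible on `N i`. -/
theorem irr (k : Blk H T V d r i L) (h : In H T Q V N d t r) {U : Subgroup G} (hU : U ≤ N i)
    (hn : L ≤ normalizer (U : Set G)) (hne : U ≠ ⊥) : N i ≤ U := by
  obtain ⟨l, hl, hm⟩ := k.mv
  have htL : t i ∈ L := k.BL (h.t_bau i)
  set m := r i * d i * (r i)⁻¹ with hmdef
  have hmN : m ∈ N i := h.r_N i (h.dN i)
  have hdsq := h.mulself (h.dV i)
  have hmsq := h.mulself (h.NV i hmN)
  have hdm := h.Vcomm _ (h.dV i) _ (h.NV i hmN)
  have htm : t i * m * (t i)⁻¹ = d i * m := h.t_m i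
  have htU : ∀ x ∈ U, t i * x * (t i)⁻¹ ∈ U := fun x hx => (mem_normalizer_iff.1 (hn htL) x).1 hx
  -- `d ∈ U`
  have hdU : d i ∈ U := by
    obtain ⟨u, hu, hu1⟩ := (Subgroup.bot_or_exists_ne_one U).resolve_left hne
    rcases h.mem_N i (hU hu) with h1 | h1 | h1 | h1
    · exact absurd h1 hu1
    · rwa [h1] at hu
    · have h2 := htU u hu
      rw [h1, ← hmdef, htm] at h2
      rw [h1, ← hmdef] at hu
      have h3 := mul_mem h2 (inv_mem hu)
      rwa [mul_inv_cancel_right] at h3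
    · have h2 := htU u hu
      have e : t i * (d i * m) * (t i)⁻¹ = (t i * d i * (t i)⁻¹) * (t i * m * (t i)⁻¹) := by group
      rw [h1, ← hmdef, e, h.t_d, htm, ← mul_assoc, hdsq, one_mul] at h2
      rw [h1, ← hmdef] at hu
      have h3 := mul_mem hu (inv_mem h2)
      rwa [mul_inv_cancel_right] at h3
  have hmU : m ∈ U := by
    have h1 : l * d i * l⁻¹ ∈ U := (mem_normalizer_iff.1 (hn hl) _).1 hdU
    rcases h.mem_N i (hU h1) with h2 | h2 | h2 | h2
    · exfalso
      apply h.d1 i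
      calc d i = l⁻¹ * (l * d i * l⁻¹) * l := by group
        _ = 1 := by rw [h2]; group
    · exact absurd h2 hm
    · rwa [h2] at h1
    · rw [h2, ← hmdef] at h1
      have h3 := mul_mem (inv_mem hdU) h1
      rwa [inv_mul_cancel_left] at h3
  intro v hv
  rcases h.mem_N i hv with h1 | h1 | h1 | h1
  · rw [h1]; exact one_mem _
  · rw [h1]; exact hdU
  · rw [h1]; exact hmU
  · rw [h1]; exact mul_mem hdU hmU

/-- For `z ∈ Z_J(T)` one of `z`, `d i * z` is centralised by `L`. -/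
theorem cent_or (k : Blk H T V d r i L) (h : In H T Q V N d t r) {z : G} (hz : z ∈ zj T) :
    (∀ x ∈ L, x * z = z * x) ∨ ∀ x ∈ L, x * (d i * z) = d i * z * x := by
  obtain ⟨l, hl, hm⟩ := k.mv
  rcases k.Z_split h hl hm hz with h1 | h1
  · exact Or.inl (k.cent_of h hl hm hz h1)
  · exact Or.inr (k.cent_of h hl hm (mul_mem (h.d_mem_Z i) hz) h1)

/-- The other `d j` are centralised by `L`. -/
theorem cent_d (k : Blk H T V d r i L) (h : In H T Q V N d t r) {j : ι} (hij : i ≠ j) :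
    ∀ x ∈ L, x * d j = d j * x := by
  rcases cent_or k h (h.d_mem_Z j) with h1 | h1
  · exact h1
  · exfalso
    obtain ⟨l, hl, hm⟩ := k.mv
    obtain ⟨y, hy, hys⟩ := h.PP_mv (k.LP hl) hm k.BL hl
    have h2 := h1 y hy.1
    have h3 := hys _ (mul_mem (h.dV i) (h.dV j))
    have h4 : y * (d i * d j) * y⁻¹ = d i * d j := by rw [h2]; group
    rw [h4] at h3
    have e : r i * (d i * d j) * (r i)⁻¹ = (r i * d i * (r i)⁻¹) * (r i * d j * (r i)⁻¹) := by group
    rw [e, h.r_d' hij] at h3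
    exact h.r_d_ne i (mul_right_cancel h3).symm

/-- `[V_i, L] ≤ N i` for `V_i = Z_J N i`. -/
theorem comm_VV (k : Blk H T V d r i L) (h : In H T Q V N d t r) {l y : G} (hl : l ∈ L)
    (hy : y ∈ VV T N i) : l * y * l⁻¹ * y⁻¹ ∈ N i := by
  obtain ⟨z, hz, n, hn, rfl⟩ := mem_VV h hy
  have key : ∀ z' n', n' ∈ N i → (∀ x ∈ L, x * z' = z' * x) → z' ∈ zj T →
      l * (z' * n') * l⁻¹ * (z' * n')⁻¹ ∈ N i := by
    intro z' n' hn' hc hz'
    have h1 : l * n' * l⁻¹ ∈ N i := k.L_N h hl hn'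
    have h2 : l * n' * l⁻¹ * n'⁻¹ ∈ N i := mul_mem h1 (inv_mem hn')
    have h3 := h.ZcV z' hz' _ (h.NV i h2)
    have e : l * (z' * n') * l⁻¹ * (z' * n')⁻¹ = z' * (l * n' * l⁻¹ * n'⁻¹) * z'⁻¹ := by
      calc l * (z' * n') * l⁻¹ * (z' * n')⁻¹ = (l * z') * n' * l⁻¹ * (z' * n')⁻¹ := by group
        _ = (z' * l) * n' * l⁻¹ * (z' * n')⁻¹ := by rw [hc l hl]
        _ = _ := by group
    rw [e, h3]
    have e2 : l * n' * l⁻¹ * n'⁻¹ * z' * z'⁻¹ = l * n' * l⁻¹ * n'⁻¹ := by group
    rw [e2]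
    exact h2
  rcases cent_or k h hz with h1 | h1
  · exact key z n hn h1 hz
  · have h2 := key (d i * z) (d i * n) (mul_mem (h.dN i) hn) h1 (mul_mem (h.d_mem_Z i) hz)
    have e : d i * z * (d i * n) = z * n := by
      have h3 := h.ZcV z hz _ (h.dV i)
      calc d i * z * (d i * n) = d i * (z * d i) * n := by group
        _ = d i * (d i * z) * n := by rw [h3]
        _ = (d i * d i) * (z * n) := by group
        _ = z * n := by rw [h.mulself (h.dV i), one_mul]
    rwa [e] at h2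

theorem zl_le (k : Blk H T V d r i L) (h : In H T Q V N d t r) : zl (bau T) L ≤ VV T N i := by
  rw [zl]
  refine iSup_le fun x => ?_
  rintro _ ⟨z, hz, rfl⟩
  refine k.VV_norm h x.2 ?_
  have hz' : z ∈ zc (bau T) := hz
  rw [ChoiceBase.zc_bau] at hz'
  exact mem_sup_left hz'

theorem zj_le_zl (L : Subgroup G) : zj T ≤ zl (bau T) L := by
  intro z hz
  rw [← ChoiceBase.zc_bau] at hz
  have h1 : cj ((1 : L) : G) (zc (bau T)) ≤ zl (bau T) L :=
    le_iSup (fun g : L => (zc (bau T)).map (MulAut.conj (g : G)).toMonoidHom) 1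
  exact h1 ⟨z, hz, by simp⟩

/-- The module of the block is the commutator `vl B L`. -/
theorem eq_vl (k : Blk H T V d r i L) (h : In H T Q V N d t r) : vl (bau T) L = N i := by
  have hz : ∀ x ∈ L, cj x (zl (bau T) L) ≤ zl (bau T) L := by
    intro x hx
    rw [zl]
    change Subgroup.map _ _ ≤ _
    rw [Subgroup.map_iSup]
    refine iSup_le fun g => ?_
    change ChoiceBase.cj x (ChoiceBase.cj (g : G) (zc (bau T))) ≤ _
    rw [cj_cj]
    exact le_iSup (fun g : L => (zc (bau T)).map (MulAut.conj (g : G)).toMonoidHom)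
      ⟨x * g, L.mul_mem hx g.2⟩
  have h1 : vl (bau T) L ≤ N i := by
    rw [vl, commutator_comm, commutator_le]
    intro x hx y hy
    rw [commutatorElement_def]
    exact comm_VV k h hx (zl_le k h hy)
  refine le_antisymm h1 (irr k h h1 ?_ ?_)
  · intro x hx
    exact Endo.norm_vl (Subgroup.le_normalizer hx) (mem_normalizer_of_cj_le (hz x hx))
  · intro h0
    obtain ⟨l, hl, hm⟩ := k.mv
    have h2 : ⁅d i, l⁆ ∈ vl (bau T) L :=
      commutator_mem_commutator (zj_le_zl L (h.d_mem_Z i)) hl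
    rw [h0, mem_bot, commutatorElement_eq_one_iff_mul_comm] at h2
    apply hm
    rw [← h2]
    group

theorem gen (k : Blk H T V d r i L) (h : In H T Q V N d t r) :
    L ≤ ⨆ x : L, cj (x : G) (bau T) := by
  obtain ⟨l, hl, hm⟩ := k.mv
  refine k.gen h hl hm ?_ ?_
  · have h1 : cj ((1 : L) : G) (bau T) ≤ ⨆ x : L, cj (x : G) (bau T) :=
      le_iSup (fun x : L => cj (x : G) (bau T)) 1
    intro b hb
    exact h1 ⟨b, hb, by simp⟩
  · intro b hb
    have h1 : cj l (bau T) ≤ ⨆ x : L, cj (x : G) (bau T) :=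
      le_iSup (fun x : L => cj (x : G) (bau T)) ⟨l, hl⟩
    exact h1 ⟨b, hb, rfl⟩

theorem N_le_bau (h : In H T Q V N d t r) : N i ≤ bau T := le_sup_right.trans (VV_le_B h)

/-- **The Baumann block is a block.** -/
theorem blk (k : Blk H T V d r i L) (h : In H T Q V N d t r) : Main.Blk (bau T) L (N i) := by
  have hNp : IsPGroup 2 (N i) := by
    intro x
    refine ⟨1, Subtype.ext ?_⟩
    have := h.Vsq x (h.NV i x.2)
    simpa using this
  have hNL : N i ≤ L := (N_le_bau h).trans k.BL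
  have hne : N i ≠ ⊥ := fun h0 => h.d1 i (mem_bot.1 (h0 ▸ h.dN i))
  have hLN : L ≤ normalizer (N i : Set G) := fun x hx => h.PP_norm_N i (k.LP hx)
  refine Main.Blk.of_irr k.BL (gen k h) hNL ?_ ?_ hNp
    (fun x hx y hy => h.Vcomm x (h.NV i hx) y (h.NV i hy)) ?_ ?_
  · intro w h1 h2
    rw [← eq_vl k h]
    exact Endo.norm_vl h1 h2
  · have h1 : L ≤ normalizer ((N i ⊓ centralizer (o2 L : Set G) : Subgroup G) : Set G) := by
      intro x hx
      rw [mem_normalizer_iff_cj, cj_inf, cj_eq_of_mem_normalizer (hLN hx), cj_centralizer,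
        cj_eq_of_mem_normalizer (le_normalizer_o2 L hx)]
    have : Fact (Nat.Prime 2) := ⟨Nat.prime_two⟩
    have h2 := irr k h inf_le_left h1 (Cfsg.Agent.PLocal.OffenderStep.inf_centralizer_ne_bot (N i) (o2 L) hNp
      (isPGroup_o2 L) ((o2_le L).trans hLN) hne)
    intro x hx
    rw [mem_centralizer_iff]
    intro v hv
    exact (mem_centralizer_iff.1 (h2 hv).2 x hx).symm
  · refine irr k h ?_ ?_ ?_
    · rw [commutator_comm, commutator_le]
      intro x hx y hy
      rw [commutatorElement_def]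
      exact mul_mem ((mem_normalizer_iff.1 (hLN hx) y).1 hy) (inv_mem hy)
    · intro x hx
      rw [mem_normalizer_iff_cj]
      change Subgroup.map _ ⁅N i, L⁆ = _
      rw [Subgroup.map_commutator]
      change ⁅ChoiceBase.cj x (N i), ChoiceBase.cj x L⁆ = _
      rw [cj_eq_of_mem_normalizer (hLN hx), cj_eq_of_mem_normalizer (Subgroup.le_normalizer hx)]
    · intro h0
      obtain ⟨l, hl, hm⟩ := k.mv
      have h2 : ⁅d i, l⁆ ∈ ⁅N i, L⁆ := commutator_mem_commutator (h.dN i) hl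
      rw [h0, mem_bot, commutatorElement_eq_one_iff_mul_comm] at h2
      apply hm
      rw [← h2]
      group
  · intro U hU hCU hLU hn
    exact irr k h hU hLU fun h0 => hn (by rw [h0]; exact bot_le)

end Cfsg.Agent.Omega.LemmaK.OfIn
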